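import Groth.Agent.Lib.LocFreeHom.Basic
import Groth.Agent.Lib.OX.TensorAssoc

/-! # Homs out of a finite locally free module are tensor products with the dual -/

set_option autoImplicit false
set_option maxHeartbeats 400000
set_option linter.style.haveILetI false
set_option backward.isDefEq.respectTransparency false

universe u

open CategoryTheory CategoryTheory.Limits AlgebraicGeometry MonoidalCategory

namespace GrothLib.LocFreeDual20

attribute [local instance] LocFreeHom.hasSheafHom

open LocFreeHom OX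

variable {X : Scheme.{u}}

/-- The dual. -/
noncomputable abbrev dual (E : X.Modules) : X.Modules := iHom E (Coh.structureModule X)

/-- Symmetry of the tensor product. -/
noncomputable abbrev br (A B : X.Modules) : (T A).obj B ≅ (T B).obj A :=
  ((tensorBraiding (X := X)).app B).app A

theorem br_natural {A A' B B' : X.Modules} (f : A ⟶ A') (g : B ⟶ B') :
    tMap f g ≫ (br A' B').hom = (br A B).hom ≫ tMap g f := by
  change DCoh.shP.map _ ≫ DCoh.shP.map _ = DCoh.shP.map _ ≫ DCoh.shP.map _
  rw [← Functor.map_comp, ← Functor.map_comp]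
  exact congrArg DCoh.shP.map (BraidedCategory.braiding_naturality _ _)

theorem br_br (A B : X.Modules) : (br A B).hom ≫ (br B A).hom = 𝟙 _ := by
  change DCoh.shP.map _ ≫ DCoh.shP.map _ = _
  rw [← Functor.map_comp, SymmetricCategory.symmetry]
  exact DCoh.shP.map_id _

theorem tMap_comp {A A' A'' B B' B'' : X.Modules} (f : A ⟶ A') (f' : A' ⟶ A'') (g : B ⟶ B') (g' : B' ⟶ B'') :
    tMap f g ≫ tMap f' g' = tMap (f ≫ f') (g ≫ g') := by
  rw [tMap, tMap, ← Functor.map_comp, tensorHom_comp_tensorHom, ← Functor.map_comp, ← Functor.map_comp]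

/-- `M ⊗ O ≅ M`. -/
noncomputable def unitR (M : X.Modules) : (T M).obj (Coh.structureModule X) ≅ M :=
  br M (Coh.structureModule X) ≪≫ tensorUnitNatIso.app M

theorem unitR_natural {M M' : X.Modules} (g : M ⟶ M') :
    tMap g (𝟙 (Coh.structureModule X)) ≫ (unitR M').hom = (unitR M).hom ≫ g := by
  have h : tMap (𝟙 (Coh.structureModule X)) g ≫ ((tensorUnitNatIso (X := X)).app M').hom =
      ((tensorUnitNatIso (X := X)).app M).hom ≫ g := by
    rw [← tMap_right]
    exact tensorUnitNatIso.hom.naturality g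
  simp only [unitR, Iso.trans_hom, Category.assoc, ← h]
  rw [← Category.assoc, br_natural, Category.assoc]

/-- `E^∨ ⊗ E ⟶ O`. -/
noncomputable def σ (E : X.Modules) : (T (dual E)).obj E ⟶ Coh.structureModule X :=
  (br (dual E) E).hom ≫ ev E (Coh.structureModule X)

theorem σ_dinatural {A F : X.Modules} (a : A ⟶ F) :
    tMap (hMap a (Coh.structureModule X)) (𝟙 A) ≫ σ A = tMap (𝟙 (dual F)) a ≫ σ F := by
  rw [σ, σ, ← Category.assoc, br_natural, Category.assoc, ← Category.assoc (tMap (𝟙 (dual F)) a), br_natural,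
    Category.assoc, ← tMap_right, ← tMap_left]
  exact congrArg ((br _ _).hom ≫ ·) (uncurry_hMap a _)

/-- The transpose of `M ⊗ E^∨ ⟶ Hom(E, M)`. -/
noncomputable def τ (E M : X.Modules) : (T E).obj ((T M).obj (dual E)) ⟶ M :=
  (br E _).hom ≫ (tensorAssoc M (dual E) E).hom ≫ tMap (𝟙 M) (σ E) ≫ (unitR M).hom

theorem τ_dinatural {A F : X.Modules} (a : A ⟶ F) (M : X.Modules) :
    tMap (𝟙 A) (tMap (𝟙 M) (hMap a (Coh.structureModule X))) ≫ τ A M =
      tMap a (𝟙 ((T M).obj (dual F))) ≫ τ F M := by
  rw [τ, τ, ← Category.assoc, br_natural, Category.assoc, ← Category.assoc (tMap (tMap _ _) _),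
    tensorAssoc_natural, Category.assoc, ← Category.assoc (tMap (𝟙 M) _), tMap_comp, σ_dinatural]
  rw [← Category.assoc (tMap a _), br_natural, Category.assoc, ← tMap_id M (dual F),
    ← Category.assoc (tMap (tMap _ _) a), tensorAssoc_natural, Category.assoc,
    ← Category.assoc (tMap (𝟙 M) (tMap (𝟙 (dual F)) a)), tMap_comp]

/-- `M ⊗ E^∨ ⟶ Hom(E, M)`. -/
noncomputable def θ (E M : X.Modules) : (T M).obj (dual E) ⟶ iHom E M := curry (τ E M)

theorem τ_natural (E : X.Modules) {M M' : X.Modules} (g : M ⟶ M') :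
    tMap (𝟙 E) (tMap g (𝟙 (dual E))) ≫ τ E M' = τ E M ≫ g := by
  simp only [τ, Category.assoc]
  rw [← Category.assoc, br_natural, Category.assoc, ← Category.assoc (tMap (tMap _ _) _), tensorAssoc_natural,
    tMap_id, Category.assoc, ← Category.assoc (tMap g _), tMap_comp]
  conv_rhs => rw [← unitR_natural, ← Category.assoc (tMap (𝟙 M) (σ E)), tMap_comp]
  simp only [Category.id_comp, Category.comp_id]

theorem θ_natural (E : X.Modules) {M M' : X.Modules} (g : M ⟶ M') :
    wh g (dual E) ≫ θ E M' = θ E M ≫ (DCoh.sheafHom E).map g := by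
  rw [θ, θ, curry, curry, ← Adjunction.homEquiv_naturality_left, ← Adjunction.homEquiv_naturality_right]
  refine congrArg _ ?_
  rw [tMap_right, wh, tMap_left]
  exact τ_natural E g

theorem θ_dinatural {A F : X.Modules} (a : A ⟶ F) (M : X.Modules) :
    (T M).map (hMap a (Coh.structureModule X)) ≫ θ A M = θ F M ≫ hMap a M := hom_ext <| by
  rw [uncurry_comp_hMap, uncurry_comp, θ, θ, uncurry_curry, uncurry_curry, tMap_right, tMap_right, wh, tMap_left]
  exact τ_dinatural a M

theorem isIso_θ_of_unit {E : X.Modules} (e : E ≅ Coh.structureModule X) (M : X.Modules) : IsIso (θ E M) := by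
  haveI := isEquivalence_T_unit e
  haveI := isIso_ev_of_unit e M
  haveI := isIso_ev_of_unit e (Coh.structureModule X)
  have : IsIso (tMap (𝟙 M) (ev E (Coh.structureModule X))) := by
    rw [← tMap_right]; infer_instance
  have : IsIso (tMap (𝟙 M) (σ E)) := by
    rw [← tMap_right, σ]; infer_instance
  have h : IsIso (uncurry (θ E M)) := by
    rw [θ, uncurry_curry, τ]; infer_instance
  haveI : IsIso ((T E).map (θ E M)) := IsIso.of_isIso_comp_right _ (ev E M)
  exact isIso_of_reflects_iso _ (T E)

theorem isIso_θ_freeMod (n : ℕ) (M : X.Modules) : IsIso (θ (FlatMod.freeMod X n) M) := by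
  let ι := fun i => Sigma.ι (fun _ : Fin n => Coh.structureModule X) i
  let O := Coh.structureModule X
  haveI := isIso_θ_of_unit (Iso.refl O) M
  refine ⟨∑ i, hMap (ι i) M ≫ inv (θ O M) ≫ (T M).map (hMap (freeProj X n i) O), ?_, ?_⟩
  · rw [Preadditive.comp_sum]
    refine (Finset.sum_congr rfl (g := fun i => (T M).map (hMap (ι i) O) ≫ (T M).map (hMap (freeProj X n i) O))
      fun i _ => ?_).trans ?_
    · rw [← Category.assoc, ← θ_dinatural, Category.assoc, IsIso.hom_inv_id_assoc]
    · simp only [← Functor.map_comp, ← hMap_comp]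
      rw [← Functor.map_sum, ← hMap_sum, freeProj_total, hMap_id, CategoryTheory.Functor.map_id]
  · rw [Preadditive.sum_comp]
    refine (Finset.sum_congr rfl (g := fun i => hMap (ι i) M ≫ hMap (freeProj X n i) M) fun i _ => ?_).trans ?_
    · rw [Category.assoc, Category.assoc, θ_dinatural, IsIso.inv_hom_id_assoc]
    · simp only [← hMap_comp]
      rw [← hMap_sum, freeProj_total, hMap_id]

theorem isIso_restrict_T_map {U : Scheme.{u}} (j : U ⟶ X) [IsOpenImmersion j] (M : X.Modules) {N N' : X.Modules}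
    (g : N ⟶ N') (h : IsIso ((Scheme.Modules.restrictFunctor j).map g)) :
    IsIso ((Scheme.Modules.restrictFunctor j).map ((T M).map g)) := by
  have e : (T M).map g = (br M N).hom ≫ wh g M ≫ (br N' M).hom := by
    rw [wh, tMap_left, tMap_right, br_natural, ← Category.assoc, br_br, Category.id_comp]
  have := isIso_restrict_tensor_left j g h M
  rw [e, Functor.map_comp, Functor.map_comp]
  infer_instance

theorem isIso_restrict_θ_iff {U : Scheme.{u}} (j : U ⟶ X) [IsOpenImmersion j] {A F : X.Modules} (a : A ⟶ F)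
    (h : IsIso ((Scheme.Modules.restrictFunctor j).map a)) (M : X.Modules) :
    IsIso ((Scheme.Modules.restrictFunctor j).map (θ A M)) ↔
      IsIso ((Scheme.Modules.restrictFunctor j).map (θ F M)) := by
  have h1 := isIso_restrict_hMap j a h M
  have h2 := isIso_restrict_T_map j M _ (isIso_restrict_hMap j a h (Coh.structureModule X))
  have e := congrArg (Scheme.Modules.restrictFunctor j).map (θ_dinatural a M)
  rw [Functor.map_comp, Functor.map_comp] at e
  constructor <;> intro hh
  · exact IsIso.of_isIso_fac_right e.symm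
  · exact IsIso.of_isIso_fac_left e

theorem isIso_θ {E : X.Modules} (hE : FlatMod.IsFinLocFree E) (M : X.Modules) : IsIso (θ E M) := by
  refine (OX.isIso_iff _).2 fun x => ?_
  obtain ⟨U, n, hxU, ⟨e⟩⟩ := hE x
  let R := Scheme.Modules.restrictFunctor U.ι
  let e' : R.obj (FlatMod.freeMod X n) ≅ FlatMod.freeMod (U : Scheme.{u}) n :=
    (Scheme.Modules.restrictFunctorIsoPullback U.ι).app _ ≪≫ pullFreeModIso U.ι n
  let c : R.obj E ≅ R.obj (FlatMod.freeMod X n) := e ≪≫ e'.symm
  let a₂ : (CxOX.extZero U.ι).obj (R.obj E) ⟶ FlatMod.freeMod X n :=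
    (CxOX.extZero U.ι).map c.hom ≫ epsZ U.ι _
  have h₁ : IsIso (R.map (epsZ U.ι E)) := isIso_restrict_epsZ U.ι E
  have h₂ : IsIso (R.map a₂) := by
    have := isIso_restrict_epsZ U.ι (FlatMod.freeMod X n)
    simp only [a₂, Functor.map_comp]
    infer_instance
  have hfree : IsIso (R.map (θ (FlatMod.freeMod X n) M)) := by
    have := isIso_θ_freeMod (X := X) n M
    infer_instance
  have hE' := (isIso_restrict_θ_iff U.ι _ h₁ M).1 ((isIso_restrict_θ_iff U.ι _ h₂ M).2 hfree)
  exact isIso_stalk_of_restrict U.ι _ hE' ⟨x, hxU⟩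

/-- `(- ⊗ E^∨) ≅ Hom(E, -)` for finite locally free `E`. -/
noncomputable def dualIso {E : X.Modules} (hE : FlatMod.IsFinLocFree E) :
    (DCoh.tensorBi (X := X)).flip.obj (dual E) ≅ DCoh.sheafHom E :=
  haveI := isIso_θ hE
  NatIso.ofComponents (fun M => asIso (θ E M)) fun g => θ_natural E g

/-- `Hom(E, -)` is exact. -/
theorem preservesFiniteColimits_sheafHom {E : X.Modules} (hE : FlatMod.IsFinLocFree E) :
    PreservesFiniteColimits (DCoh.sheafHom E) := by
  have : PreservesColimitsOfSize.{0, 0} ((DCoh.tensorBi (X := X)).flip.obj (dual E)) := inferInstance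
  exact preservesFiniteColimits_of_natIso (dualIso hE)

end GrothLib.LocFreeDual20
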