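import Groth.Agent.Lib.LocFreeDual20.Basic
import Groth.Agent.Lib.ModSupp25.Derived
import Groth.Prelude.Def_ModSite
import Groth.Prelude.Def_RDer

/-! # Local Ext out of a tensor product with a finite locally free module -/

set_option autoImplicit false
set_option maxHeartbeats 400000
set_option linter.style.haveILetI false
set_option backward.isDefEq.respectTransparency false

universe u

open CategoryTheory CategoryTheory.Limits AlgebraicGeometry

namespace GrothLib.LocFreeDual20

attribute [local instance] LocFreeHom.hasSheafHom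

open LocFreeHom OX

variable {X : Scheme.{u}}

/-- The two internal Homs agree. -/
noncomputable def siteHomIso (E : X.Modules) [ModSite.HasSheafHom (O := X.sheaf) E] :
    ModSite.sheafHom (O := X.sheaf) E ≅ (DCoh.sheafHom E : X.Modules ⥤ X.Modules) :=
  ((ModSite.sheafHomAdj (O := X.sheaf) E).ofNatIsoLeft
    ((tensorBraiding (X := X)).app E)).rightAdjointUniq (DCoh.sheafHomAdj E)

/-- `(- ⊗ E) ⊗ F ≅ - ⊗ (E ⊗ F)`. -/
noncomputable def flipCompIso (E F : X.Modules) :
    (DCoh.tensorBi (X := X)).flip.obj E ⋙ (DCoh.tensorBi (X := X)).flip.obj F ≅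
      (DCoh.tensorBi (X := X)).flip.obj (CohB1.tensorMod E F) :=
  NatIso.ofComponents (fun P => tensorAssoc P E F) (fun {P P'} f => tensorAssoc_natural₁ f E F)

/-- `Hom(E ⊗ F, -) ≅ Hom(E, Hom(F, -))`. -/
noncomputable def homTensorIso (E F : X.Modules) [ModSite.HasSheafHom (O := X.sheaf) E]
    [ModSite.HasSheafHom (O := X.sheaf) F] [ModSite.HasSheafHom (O := X.sheaf) (CohB1.tensorMod E F)] :
    ModSite.sheafHom (O := X.sheaf) F ⋙ ModSite.sheafHom (O := X.sheaf) E ≅
      ModSite.sheafHom (O := X.sheaf) (CohB1.tensorMod E F) :=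
  (((ModSite.sheafHomAdj (O := X.sheaf) E).comp (ModSite.sheafHomAdj (O := X.sheaf) F)).ofNatIsoLeft
    (flipCompIso E F)).rightAdjointUniq (ModSite.sheafHomAdj (O := X.sheaf) (CohB1.tensorMod E F))

/-- Isomorphic arguments give isomorphic internal Homs. -/
noncomputable def homCongrIso {E F : X.Modules} (e : E ≅ F) [ModSite.HasSheafHom (O := X.sheaf) E]
    [ModSite.HasSheafHom (O := X.sheaf) F] :
    ModSite.sheafHom (O := X.sheaf) E ≅ ModSite.sheafHom (O := X.sheaf) F :=
  ((ModSite.sheafHomAdj (O := X.sheaf) E).ofNatIsoLeft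
    ((ModSite.tensorBi X.sheaf).flip.mapIso e)).rightAdjointUniq (ModSite.sheafHomAdj (O := X.sheaf) F)

theorem preservesHomology_sheafHom {E : X.Modules} (hE : FlatMod.IsFinLocFree E)
    [ModSite.HasSheafHom (O := X.sheaf) E] :
    (ModSite.sheafHom (O := X.sheaf) E).PreservesHomology := by
  have h1 : PreservesFiniteColimits (ModSite.sheafHom (O := X.sheaf) E) :=
    @preservesFiniteColimits_of_natIso _ _ _ _ _ _ (siteHomIso E).symm (preservesFiniteColimits_sheafHom hE)
  have h2 : PreservesLimitsOfSize.{0, 0} (ModSite.sheafHom (O := X.sheaf) E) :=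
    (ModSite.sheafHomAdj (O := X.sheaf) E).rightAdjoint_preservesLimits
  exact Functor.preservesHomologyOfExact _

/-- `Hom(E, M) ≅ M ⊗ E^∨`. -/
noncomputable def homObjIso {E : X.Modules} (hE : FlatMod.IsFinLocFree E)
    [ModSite.HasSheafHom (O := X.sheaf) E] (M : X.Modules) :
    (ModSite.sheafHom (O := X.sheaf) E).obj M ≅
      CohB1.tensorMod M ((ModSite.sheafHom (O := X.sheaf) E).obj (Coh.structureModule X)) :=
  (siteHomIso E).app M ≪≫ ((dualIso hE).app M).symm ≪≫
    ((DCoh.tensorBi (X := X)).obj M).mapIso ((siteHomIso E).app (Coh.structureModule X)).symm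

/-- `ℰxt^q(E ⊗ F, G) ≅ ℰxt^q(F, G) ⊗ E^∨`. -/
theorem nonempty_extSh_tensor_iso {E : X.Modules} (hE : FlatMod.IsFinLocFree E) (F G : X.Modules)
    [ModSite.HasSheafHom (O := X.sheaf) E] [ModSite.HasSheafHom (O := X.sheaf) F]
    [ModSite.HasSheafHom (O := X.sheaf) (CohB1.tensorMod E F)]
    [HasInjectiveResolutions (ModSite.Mod X.sheaf)] (q : ℕ) :
    Nonempty (CohB1.tensorMod ((ModSite.extSh (O := X.sheaf) F q).obj G)
        ((ModSite.sheafHom (O := X.sheaf) E).obj (Coh.structureModule X)) ≅
      (ModSite.extSh (O := X.sheaf) (CohB1.tensorMod E F) q).obj G) := by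
  have := preservesHomology_sheafHom hE
  have : PreservesLimitsOfSize.{0, 0} (ModSite.sheafHom (O := X.sheaf) E) :=
    (ModSite.sheafHomAdj (O := X.sheaf) E).rightAdjoint_preservesLimits
  have : (ModSite.sheafHom (O := X.sheaf) E).Additive := Functor.additive_of_preserves_binary_products _
  exact ⟨(homObjIso hE _).symm ≪≫
    (ModSupp25.rightDerivedPostIso (ModSite.sheafHom (O := X.sheaf) F) (ModSite.sheafHom (O := X.sheaf) E) q).app G ≪≫
    (SheafCoh.rightDerivedCongr (homTensorIso E F) q).app G⟩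

end GrothLib.LocFreeDual20
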