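import Groth.Agent.Lib.LocFreeDual20.Ext
import Groth.Agent.Lib.ExtAdj.Basic
import Groth.Agent.Lib.OX.LocFreeTensor
import Groth.Agent.Lib.ModSupp25.SS
import Groth.Agent.Lib.LocZ.Excision
import Groth.Agent.Lib.Cohom.Basic
import Groth.Prelude.Def_Coh

/-! # Ext out of a finite locally free module -/

set_option autoImplicit false
set_option maxHeartbeats 400000
set_option linter.style.haveILetI false
set_option backward.isDefEq.respectTransparency false

universe u

open CategoryTheory CategoryTheory.Limits AlgebraicGeometry CategoryTheory.Abelian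

namespace GrothLib.LocFreeDual20

attribute [local instance] LocFreeHom.hasSheafHom

open LocFreeHom OX

variable {X : Scheme.{u}} [HasExt.{u} X.Modules]

/-- `Ext^n(F ⊗ E, G) ≅ Ext^n(F, Hom(E, G))`. -/
theorem nonempty_ext_tensor_addEquiv {E : X.Modules} (hE : FlatMod.IsFinLocFree E) (F G : X.Modules) (n : ℕ) :
    Nonempty (Ext F ((DCoh.sheafHom E).obj G) n ≃+ Ext (CohB1.tensorMod F E) G n) := by
  let L := (DCoh.tensorBi (X := X)).flip.obj E
  let R := DCoh.sheafHom E
  let adj : L ⊣ R := (DCoh.sheafHomAdj E).ofNatIsoLeft ((tensorBraiding (X := X)).app E).symm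
  have hL : PreservesFiniteLimits L ∧ PreservesFiniteColimits L := by
    have : L.Additive := Functor.additive_of_iso ((tensorBraiding (X := X)).app E).symm
    exact (L.exact_tfae.out 0 3).1 fun S hS => tensor_map_shortExact (flat_of_isFinLocFree hE) hS
  obtain ⟨h1, h2⟩ := hL
  have : L.Additive := Functor.additive_of_iso ((tensorBraiding (X := X)).app E).symm
  have : R.Additive := adj.right_adjoint_additive
  have : PreservesFiniteColimits R := preservesFiniteColimits_sheafHom hE
  have : PreservesLimitsOfSize.{0, 0} R := adj.rightAdjoint_preservesLimits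
  have : R.PreservesHomology := Functor.preservesHomologyOfExact _
  exact ⟨AddEquiv.ofBijective (ExtAdj.adjMap adj F G n)
    (ExtAdj.bijective_adjMap adj F n G fun q => LocZ.isZero_rightDerived_exact R G q)⟩

/-- Ext groups of isomorphic first arguments. -/
theorem nonempty_ext_congr_addEquiv {A B : X.Modules} (e : A ≅ B) (G : X.Modules) (n : ℕ) :
    Nonempty (Ext B G n ≃+ Ext A G n) :=
  ⟨Cohom.extPrecompIso e G n⟩

/-- `Ext^n(E, B) ≅ H^n(X, Hom(E, B))`. -/
theorem nonempty_ext_addEquiv_HH {E : X.Modules} (hE : FlatMod.IsFinLocFree E) (B : X.Modules) (n : ℕ) :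
    Nonempty (Ext E B n ≃+ Coh.HH X ((DCoh.sheafHom E).obj B) n) := by
  obtain ⟨a⟩ := nonempty_ext_tensor_addEquiv hE (Coh.structureModule X) B n
  obtain ⟨b⟩ := nonempty_ext_congr_addEquiv (tensorUnitNatIso.app E) B n
  have : HasExt.{u} (ModSite.Mod X.sheaf) := ‹HasExt.{u} X.Modules›
  obtain ⟨c⟩ := ModSupp25.nonempty_extUnit_iso (O := X.sheaf) ((DCoh.sheafHom E).obj B) n
  exact ⟨b.trans (a.symm.trans c.addCommGroupIsoToAddEquiv)⟩

end GrothLib.LocFreeDual20
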